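import Mathlib
import Groth.Agent.SepSurj.Basic
import Groth.Agent.FibCrit.Tools

/-!
Basic permanence of weakly étale algebras.
-/

set_option autoImplicit false

namespace Groth.Agent.WeakEt

universe u

open scoped TensorProduct

/-- A surjective map with pure kernel is flat, and conversely. -/
theorem flat_iff_kernel_pure {R S : Type u} [CommRing R] [CommRing S] {f : R →+* S} (hf : Function.Surjective f) :
    f.Flat ↔ (RingHom.ker f).Pure := by
  let e := RingHom.quotientKerEquivOfSurjective hf
  have h1 : f = e.toRingHom.comp (Ideal.Quotient.mk (RingHom.ker f)) := RingHom.ext fun _ => rfl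
  constructor
  · intro h
    have h2 : (Ideal.Quotient.mk (RingHom.ker f)).Flat := by
      have h3 : Ideal.Quotient.mk (RingHom.ker f) = e.symm.toRingHom.comp f := RingHom.ext fun x => by
        change _ = e.symm (f x)
        rw [eq_comm, RingEquiv.symm_apply_eq]
        rfl
      rw [h3]
      exact h.comp (RingHom.Flat.of_bijective e.symm.bijective)
    exact RingHom.flat_algebraMap_iff.1 h2
  · intro h
    rw [h1]
    exact RingHom.Flat.comp (RingHom.flat_algebraMap_iff.2 h) (RingHom.Flat.of_bijective e.bijective)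

/-- An ideal whose generators are fixed by elements of the ideal is pure. -/
theorem pure_of_generators {R : Type u} [CommRing R] {K : Ideal R} {s : Set R} (hs : Ideal.span s = K)
    (h : ∀ x ∈ s, ∃ y ∈ K, x * y = x) : K.Pure := by
  have key : ∀ x ∈ K, ∃ y ∈ K, x * y = x := by
    intro x hx
    rw [← hs] at hx
    induction hx using Submodule.span_induction with
    | mem x hx => exact h x hx
    | zero => exact ⟨0, K.zero_mem, by rw [zero_mul]⟩
    | add a b _ _ ha hb =>
      obtain ⟨y, hy, hay⟩ := ha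
      obtain ⟨z, hz, hbz⟩ := hb
      refine ⟨y + z - y * z, K.sub_mem (K.add_mem hy hz) (K.mul_mem_right _ hy), ?_⟩
      linear_combination (1 - z) * hay + (1 - y) * hbz
    | smul c a _ ha =>
      obtain ⟨y, hy, hay⟩ := ha
      exact ⟨y, hy, by rw [smul_eq_mul, mul_assoc, hay]⟩
  refine Ideal.Pure.of_inf_eq_mul K fun J _ => le_antisymm (fun x hx => ?_) Ideal.mul_le_inf
  obtain ⟨y, hy, hxy⟩ := key x hx.1
  have h' := Ideal.mul_mem_mul hy hx.2
  rwa [mul_comm y x, hxy] at h'

/-- A flat map after a surjection is flat. -/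
theorem flat_of_comp_surjective {R S T : Type u} [CommRing R] [CommRing S] [CommRing T] {f : R →+* S} {g : S →+* T}
    (hf : Function.Surjective f) (h : (g.comp f).Flat) : g.Flat := by
  algebraize [f, g, g.comp f]
  haveI : Algebra.IsEpi R S := Algebra.isEpi_of_surjective_algebraMap R S hf
  haveI : Module.Flat R T := h
  exact Groth.Agent.FibCrit.flat_of_isEpi (S := R) (B := S) (Z := T)

/-- An algebra map between weakly étale algebras is weakly étale. -/
theorem weaklyEtale_of_comp (A B C : Type u) [CommRing A] [CommRing B] [CommRing C] [Algebra A B] [Algebra A C]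
    [Algebra B C] [IsScalarTower A B C] [Algebra.WeaklyEtale A B] [Algebra.WeaklyEtale A C] :
    Algebra.WeaklyEtale B C := by
  let lB := Algebra.TensorProduct.lmul' A (S := B)
  have hlB : Function.Surjective lB := fun b => ⟨b ⊗ₜ[A] 1, by simp [lB]⟩
  haveI hJ : (RingHom.ker lB.toRingHom).Pure := (flat_iff_kernel_pure hlB).1 (Algebra.WeaklyEtale.flat_lmul' A B)
  let ψ : B ⊗[A] B →ₐ[A] B ⊗[A] C := Algebra.TensorProduct.map (AlgHom.id A B) (IsScalarTower.toAlgHom A B C)
  let μ : B ⊗[A] C →ₐ[B] C := Algebra.TensorProduct.lift (Algebra.ofId B C) (AlgHom.id A C) fun _ _ => Commute.all _ _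
  have hμt : ∀ b c, μ (b ⊗ₜ[A] c) = algebraMap B C b * c := fun b c => Algebra.TensorProduct.lift_tmul _ _ _ b c
  have hμs : Function.Surjective μ := fun c => ⟨1 ⊗ₜ[A] c, by rw [hμt, map_one, one_mul]⟩
  let d : B → B ⊗[A] B := fun b => b ⊗ₜ[A] 1 - 1 ⊗ₜ[A] b
  have hd : ∀ b, d b ∈ RingHom.ker lB.toRingHom := fun b => by
    change lB (d b) = 0
    simp [lB, d]
  have hψ : ∀ z, μ (ψ z) = algebraMap B C (lB z) := fun z => by
    induction z using TensorProduct.induction_on with
    | zero => simp
    | tmul x y => simp [ψ, hμt, lB]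
    | add x y hx hy => simp only [map_add, hx, hy]
  have hker : Ideal.span (Set.range fun b => ψ (d b)) = RingHom.ker μ.toRingHom := by
    refine le_antisymm (Ideal.span_le.2 ?_) fun z hz => ?_
    · rintro _ ⟨b, rfl⟩
      change μ (ψ (d b)) = 0
      rw [hψ, show lB (d b) = 0 from hd b, map_zero]
    · have key : ∀ z, z - (1 : B) ⊗ₜ[A] μ z ∈ Ideal.span (Set.range fun b => ψ (d b)) := fun z => by
        induction z using TensorProduct.induction_on with
        | zero => simp
        | tmul b c =>
          have e : b ⊗ₜ[A] c - (1 : B) ⊗ₜ[A] μ (b ⊗ₜ[A] c) = ψ (d b) * ((1 : B) ⊗ₜ[A] c) := by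
            simp [hμt, ψ, d, sub_mul]
          rw [e]
          exact Ideal.mul_mem_right _ _ (Ideal.subset_span ⟨b, rfl⟩)
        | add x y hx hy =>
          rw [map_add, TensorProduct.tmul_add, add_sub_add_comm]
          exact Ideal.add_mem _ hx hy
      simpa [show μ z = 0 from hz] using key z
  haveI : (RingHom.ker μ.toRingHom).Pure := by
    refine pure_of_generators hker ?_
    rintro _ ⟨b, rfl⟩
    obtain ⟨y, hy, hby⟩ := Ideal.exists_eq_mul_of_pure (hd b)
    refine ⟨ψ y, ?_, by rw [← map_mul, ← hby]⟩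
    change μ (ψ y) = 0
    rw [hψ, show lB y = 0 from hy, map_zero]
  have hμflat : μ.toRingHom.Flat := (flat_iff_kernel_pure hμs).2 inferInstance
  haveI : Module.Flat B C := by
    have h : (μ.toRingHom.comp (algebraMap B (B ⊗[A] C))).Flat :=
      RingHom.Flat.comp (RingHom.flat_algebraMap_iff.2 inferInstance) hμflat
    rw [show μ.toRingHom.comp (algebraMap B (B ⊗[A] C)) = algebraMap B C from μ.comp_algebraMap] at h
    exact RingHom.flat_algebraMap_iff.1 h
  refine ⟨inferInstance, ?_⟩
  let p := Algebra.TensorProduct.mapOfCompatibleSMul B A A C C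
  have hp : Function.Surjective p := fun z => by
    induction z using TensorProduct.induction_on with
    | zero => exact ⟨0, map_zero _⟩
    | tmul x y => exact ⟨x ⊗ₜ[A] y, rfl⟩
    | add x y hx hy =>
      obtain ⟨a, rfl⟩ := hx
      obtain ⟨b, rfl⟩ := hy
      exact ⟨a + b, map_add _ _ _⟩
  refine flat_of_comp_surjective (f := p.toRingHom) hp ?_
  rw [show (Algebra.TensorProduct.lmul' B (S := C)).toRingHom.comp p.toRingHom =
    (Algebra.TensorProduct.lmul' A (S := C)).toRingHom from congrArg AlgHom.toRingHom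
      (show ((Algebra.TensorProduct.lmul' B (S := C)).restrictScalars A).comp p = Algebra.TensorProduct.lmul' A from
        Algebra.TensorProduct.ext' fun x y => by simp [p])]
  exact Algebra.WeaklyEtale.flat_lmul' A C

/-- Weakly étale descends along faithfully flat maps. -/
theorem weaklyEtale_of_faithfullyFlat (A B C : Type u) [CommRing A] [CommRing B] [CommRing C] [Algebra A B]
    [Algebra B C] [Algebra A C] [IsScalarTower A B C] [Module.FaithfullyFlat B C] [Algebra.WeaklyEtale A C] :
    Algebra.WeaklyEtale A B := by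
  haveI : Module.Flat A B := Groth.Agent.SepSurj.flat_of_comp_faithfullyFlat (R := A) (S := B) (T := C)
  refine ⟨inferInstance, ?_⟩
  let lB := Algebra.TensorProduct.lmul' A (S := B)
  let lC := Algebra.TensorProduct.lmul' A (S := C)
  have hlB : Function.Surjective lB := fun b => ⟨b ⊗ₜ[A] 1, by simp [lB]⟩
  have hlC : Function.Surjective lC := fun b => ⟨b ⊗ₜ[A] 1, by simp [lC]⟩
  haveI : (RingHom.ker lC.toRingHom).Pure := (flat_iff_kernel_pure hlC).1 (Algebra.WeaklyEtale.flat_lmul' A C)
  let ι := IsScalarTower.toAlgHom A B C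
  let ψ : B ⊗[A] B →ₐ[A] C ⊗[A] C := Algebra.TensorProduct.map ι ι
  have hψflat : ψ.toRingHom.Flat :=
    RingHom.Flat.tensorProductMap (RingHom.flat_algebraMap_iff.2 inferInstance) (RingHom.flat_algebraMap_iff.2 inferInstance)
  have hψ : ∀ z, lC (ψ z) = algebraMap B C (lB z) := fun z => by
    induction z using TensorProduct.induction_on with
    | zero => simp
    | tmul x y => simp [ψ, lC, lB, ι]
    | add x y hx hy => simp only [map_add, hx, hy]
  refine (flat_iff_kernel_pure hlB).2 (pure_of_generators (Ideal.span_eq _) fun x hx => ?_)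
  have htop : RingHom.ker lB.toRingHom ⊔ LinearMap.ker (LinearMap.toSpanSingleton (B ⊗[A] B) (B ⊗[A] B) x) = ⊤ := by
    by_contra hne
    obtain ⟨P, hP, hle⟩ := Ideal.exists_le_maximal _ hne
    haveI : (P.map lB.toRingHom).IsPrime := Ideal.map_isPrime_of_surjective hlB
      ((le_sup_left : _ ≤ _ ⊔ LinearMap.ker (LinearMap.toSpanSingleton (B ⊗[A] B) (B ⊗[A] B) x)).trans hle)
    obtain ⟨⟨q, hq⟩, hqP⟩ := PrimeSpectrum.comap_surjective_of_faithfullyFlat (A := B) (B := C) ⟨P.map lB.toRingHom, inferInstance⟩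
    have hqP' : q.comap (algebraMap B C) = P.map lB.toRingHom := congrArg PrimeSpectrum.asIdeal hqP
    have hx' : ψ x ∈ RingHom.ker lC.toRingHom := by
      change lC (ψ x) = 0
      rw [hψ, show lB x = 0 from hx, map_zero]
    obtain ⟨y, hy, hxy⟩ := Ideal.exists_eq_mul_of_pure hx'
    letI := ψ.toRingHom.toAlgebra
    haveI : Module.Flat (B ⊗[A] B) (C ⊗[A] C) := hψflat
    have hrel' : ∑ i : Fin 1, (fun _ => x) i • (fun _ => (1 - y : C ⊗[A] C)) i = 0 := by
      rw [Finset.sum_const, Finset.card_univ, Fintype.card_fin, one_smul, Algebra.smul_def,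
        RingHom.algebraMap_toAlgebra]
      change ψ x * (1 - y) = 0
      rw [mul_sub, mul_one, sub_eq_zero]
      exact hxy
    obtain ⟨k, a, w, hw, ha⟩ := (Module.Flat.iff_forall_isTrivialRelation.mp (show Module.Flat (B ⊗[A] B) (C ⊗[A] C) from hψflat)) hrel'
    have hQ : (1 - y : C ⊗[A] C) ∈ q.comap lC.toRingHom := by
      rw [show (1 - y : C ⊗[A] C) = ∑ j, a 0 j • w j from hw 0]
      refine Ideal.sum_mem _ fun j _ => ?_
      rw [Algebra.smul_def]
      refine Ideal.mul_mem_right _ _ ?_
      change lC (ψ (a 0 j)) ∈ q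
      rw [hψ, ← Ideal.mem_comap, hqP']
      refine Ideal.mem_map_of_mem lB.toRingHom (hle (Ideal.mem_sup_right ?_))
      have := ha j
      simp only [Finset.univ_unique, Finset.sum_singleton] at this
      rw [LinearMap.mem_ker, LinearMap.toSpanSingleton_apply, smul_eq_mul, mul_comm]
      exact this
    refine hq.ne_top ((Ideal.eq_top_iff_one q).2 ?_)
    have h1 : lC (1 - y) ∈ q := hQ
    rwa [map_sub, map_one, show lC y = 0 from hy, sub_zero] at h1
  obtain ⟨y, hy, z, hz, hyz⟩ := Submodule.mem_sup.1 ((Ideal.eq_top_iff_one _).1 htop)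
  refine ⟨y, hy, ?_⟩
  rw [LinearMap.mem_ker, LinearMap.toSpanSingleton_apply, smul_eq_mul] at hz
  calc x * y = x * y + z * x := by rw [hz, add_zero]
    _ = x * (y + z) := by ring
    _ = x := by rw [hyz, mul_one]

/-- Modules over a von Neumann regular ring are flat. -/
theorem flat_of_forall_exists_sq_mul {R : Type u} [CommRing R] (hR : ∀ a : R, ∃ b, a * a * b = a)
    (M : Type u) [AddCommGroup M] [Module R M] : Module.Flat R M := by
  rw [Module.Flat.iff_lTensor_injective]
  intro J hJ
  have hidem : IsIdempotentElem J := le_antisymm Ideal.mul_le_left fun a ha => by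
    obtain ⟨b, hb⟩ := hR a
    rw [← hb, mul_assoc]
    exact Ideal.mul_mem_mul ha (J.mul_mem_right _ ha)
  obtain ⟨e, he, hJe⟩ := (Ideal.isIdempotentElem_iff_of_fg J hJ).1 hidem
  have heJ : e ∈ J := hJe ▸ Submodule.mem_span_singleton_self e
  let r : R →ₗ[R] J := LinearMap.toSpanSingleton R J ⟨e, heJ⟩
  have hr : r ∘ₗ J.subtype = LinearMap.id := LinearMap.ext fun x => by
    obtain ⟨c, hc⟩ := Submodule.mem_span_singleton.1 (show (x : R) ∈ R ∙ e from hJe ▸ x.2)
    refine Subtype.ext ?_
    change (x : R) * e = x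
    rw [← hc, smul_eq_mul, mul_assoc, he.eq]
  have : Function.LeftInverse (r.lTensor M) (J.subtype.lTensor M) := fun z => by
    rw [← LinearMap.comp_apply, ← LinearMap.lTensor_comp, hr, LinearMap.lTensor_id, LinearMap.id_apply]
  exact this.injective

/-- A weakly étale algebra over a von Neumann regular ring is von Neumann regular. -/
theorem exists_sq_mul_of_weaklyEtale {R S : Type u} [CommRing R] [CommRing S] [Algebra R S]
    [Algebra.WeaklyEtale R S] (hR : ∀ a : R, ∃ b, a * a * b = a) (a : S) : ∃ b, a * a * b = a := by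
  let N : Ideal S := Ideal.span {a}
  let Q := S ⧸ N
  let K : Ideal S := Ideal.span {a * a}
  haveI : Module.Flat R Q := flat_of_forall_exists_sq_mul hR Q
  let lS := Algebra.TensorProduct.lmul' R (S := S)
  have hlS : Function.Surjective lS := fun b => ⟨b ⊗ₜ[R] 1, by simp [lS]⟩
  haveI : (RingHom.ker lS.toRingHom).Pure := (flat_iff_kernel_pure hlS).1 (Algebra.WeaklyEtale.flat_lmul' R S)
  let j : S ⊗[R] S := a ⊗ₜ[R] 1 - 1 ⊗ₜ[R] a
  have hj : j ∈ RingHom.ker lS.toRingHom := by
    change lS j = 0
    simp [lS, j]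
  obtain ⟨y, hy, hjy⟩ := Ideal.exists_eq_mul_of_pure hj
  let m : S →ₗ[R] N.restrictScalars R :=
    ((LinearMap.mulLeft R a).codRestrict (N.restrictScalars R) fun s =>
      N.mul_mem_right s (Ideal.mem_span_singleton_self a))
  let Θ : S ⊗[R] S →ₗ[R] (N.restrictScalars R) ⊗[R] Q := TensorProduct.map m (Ideal.Quotient.mkₐ R N).toLinearMap
  let ψ : S ⊗[R] S →ₐ[R] S ⊗[R] Q := Algebra.TensorProduct.map (AlgHom.id R S) (Ideal.Quotient.mkₐ R N)
  have hsub : ∀ w, (N.restrictScalars R).subtype.rTensor Q (Θ w) = (a ⊗ₜ[R] (1 : Q)) * ψ w := fun w => by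
    induction w using TensorProduct.induction_on with
    | zero => simp
    | tmul u v => simp [Θ, ψ, m]; rfl
    | add u v hu hv => simp only [map_add, hu, hv, mul_add]
  have hzero : Θ (1 - y) = 0 := by
    refine (Module.Flat.rTensor_preserves_injective_linearMap (M := Q) _ (Submodule.injective_subtype _)) ?_
    rw [hsub, map_zero]
    have h1 : a ⊗ₜ[R] (1 : Q) = ψ j := by
      have h0 : (Ideal.Quotient.mk N a : Q) = 0 := Ideal.Quotient.eq_zero_iff_mem.2 (Ideal.mem_span_singleton_self a)
      have h0' : Ideal.Quotient.mkₐ R N a = 0 := h0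
      simp [ψ, j, h0']
    rw [h1, ← map_mul, mul_sub, mul_one, ← hjy, sub_self, map_zero]
  let β : (N.restrictScalars R) →ₗ[R] Q →ₗ[R] S ⧸ K :=
    LinearMap.flip (Submodule.liftQ (N.restrictScalars R)
      (((LinearMap.llcomp R _ _ _ (Ideal.Quotient.mkₐ R K).toLinearMap) ∘ₗ
        ((LinearMap.mul R S).flip.compl₂ (N.restrictScalars R).subtype))) fun s hs => by
          refine LinearMap.mem_ker.2 (LinearMap.ext fun n => ?_)
          change Ideal.Quotient.mk K ((n : S) * s) = 0
          rw [Ideal.Quotient.eq_zero_iff_mem]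
          have h := Ideal.mul_mem_mul (show (n : S) ∈ N from n.2) (show s ∈ N from hs)
          rwa [Ideal.span_singleton_mul_span_singleton] at h)
  let Λ := TensorProduct.lift β
  have hΛ : ∀ w, Λ (Θ w) = Ideal.Quotient.mk K (a * lS w) := fun w => by
    induction w using TensorProduct.induction_on with
    | zero => simp
    | tmul u v =>
      change Ideal.Quotient.mk K ((a * u) * v) = _
      simp [lS, mul_assoc]
    | add u v hu hv => simp only [map_add, hu, hv, mul_add]
  have h2 := hΛ (1 - y)
  rw [hzero, map_zero, map_sub, map_one, show lS y = 0 from hy, sub_zero, mul_one, eq_comm,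
    Ideal.Quotient.eq_zero_iff_mem, Ideal.mem_span_singleton] at h2
  obtain ⟨b, hb⟩ := h2
  exact ⟨b, hb.symm⟩

/-- Weakly étale algebras over reduced rings are reduced. -/
theorem isReduced_of_weaklyEtale (A B : Type u) [CommRing A] [CommRing B] [Algebra A B] [IsReduced A]
    [Algebra.WeaklyEtale A B] : IsReduced B := by
  let P := ∀ p : PrimeSpectrum A, p.asIdeal.ResidueField
  have hP : ∀ a : P, ∃ b, a * a * b = a := fun a => ⟨fun p => (a p)⁻¹, funext fun p => by
    change a p * a p * (a p)⁻¹ = a p
    by_cases h : a p = 0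
    · simp [h]
    · simp [mul_assoc, mul_inv_cancel₀ h]⟩
  have hinj : Function.Injective (algebraMap A P) := (injective_iff_map_eq_zero _).2 fun a ha => by
    have h : a ∈ nilradical A := by
      rw [nilradical_eq_sInf, Ideal.mem_sInf]
      intro q hq
      have h' := congrFun ha ⟨q, hq⟩
      rwa [Pi.algebraMap_apply, Pi.zero_apply, ← RingHom.mem_ker, Ideal.ker_algebraMap_residueField] at h'
    rwa [nilradical_eq_zero, Ideal.zero_eq_bot, Ideal.mem_bot] at h
  haveI : IsReduced (P ⊗[A] B) := isReduced_iff _ |>.2 fun x ⟨n, hn⟩ => by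
    obtain ⟨b, hb⟩ := exists_sq_mul_of_weaklyEtale (R := P) (S := P ⊗[A] B) hP x
    have key : ∀ k, x = x ^ (k + 1) * b ^ k := fun k => by
      induction k with
      | zero => simp
      | succ k ih =>
        calc x = x ^ (k + 1) * b ^ k := ih
          _ = x ^ k * x * b ^ k := by ring
          _ = x ^ k * (x * x * b) * b ^ k := by rw [hb]
          _ = x ^ (k + 1 + 1) * b ^ (k + 1) := by ring
    rw [key n, pow_succ, hn, zero_mul, zero_mul]
  have hinjB : Function.Injective (Algebra.TensorProduct.includeRight : B →ₐ[A] P ⊗[A] B) := by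
    have h := Module.Flat.rTensor_preserves_injective_linearMap (M := B) (Algebra.linearMap A P) hinj
    intro x y hxy
    refine (TensorProduct.lid A B).symm.injective (h ?_)
    simpa using hxy
  exact isReduced_of_injective Algebra.TensorProduct.includeRight.toRingHom hinjB

end Groth.Agent.WeakEt
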