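import Mathlib

/-! A module flat over the base is flat over an algebra with flat multiplication. -/

set_option autoImplicit false
universe u

open TensorProduct

namespace Groth.Agent.WeakEt

variable {R A : Type u} [CommRing R] [CommRing A] [Algebra R A]

/-- The action of `A ⊗ A` on the tensor product of two `A`-modules. -/
noncomputable def actionHom (M Z : Type u) [AddCommGroup M] [Module R M] [Module A M] [IsScalarTower R A M]
    [AddCommGroup Z] [Module R Z] [Module A Z] [IsScalarTower R A Z] :
    A ⊗[R] A →ₐ[R] Module.End R (M ⊗[R] Z) :=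
  Algebra.TensorProduct.lift
    (AlgHom.ofLinearMap
      ((LinearMap.rTensorHom Z).comp ((Algebra.lsmul R R M : A →ₐ[R] Module.End R M).toLinearMap))
      (TensorProduct.ext' fun m z => by simp)
      (fun a b => TensorProduct.ext' fun m z => by simp [mul_smul]))
    (AlgHom.ofLinearMap
      ((LinearMap.lTensorHom M).comp ((Algebra.lsmul R R Z : A →ₐ[R] Module.End R Z).toLinearMap))
      (TensorProduct.ext' fun m z => by simp)
      (fun a b => TensorProduct.ext' fun m z => by simp [mul_smul]))
    fun a b => TensorProduct.ext' fun m z => by simp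

theorem actionHom_tmul (M Z : Type u) [AddCommGroup M] [Module R M] [Module A M] [IsScalarTower R A M]
    [AddCommGroup Z] [Module R Z] [Module A Z] [IsScalarTower R A Z] (a b : A) (m : M) (z : Z) :
    actionHom M Z (a ⊗ₜ[R] b) (m ⊗ₜ[R] z) = (a • m) ⊗ₜ[R] (b • z) := by
  simp [actionHom]

/-- A module flat over `R` is flat over an `R`-algebra `A` with `A ⊗ A → A` flat. -/
theorem flat_of_flat_lmul (hl : (Algebra.TensorProduct.lmul' R (S := A)).toRingHom.Flat)
    (M : Type u) [AddCommGroup M] [Module R M] [Module A M] [IsScalarTower R A M] [Module.Flat R M] :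
    Module.Flat A M := by
  let l := (Algebra.TensorProduct.lmul' R (S := A)).toRingHom
  let I : Ideal (A ⊗[R] A) := RingHom.ker l
  have hls : Function.Surjective l := fun a => ⟨a ⊗ₜ 1, by simp [l]⟩
  haveI : I.Pure := by
    letI := l.toAlgebra
    haveI : Module.Flat (A ⊗[R] A) A := hl
    exact Module.Flat.of_linearEquiv
      ((Ideal.quotientKerAlgEquivOfSurjective (f := Algebra.ofId (A ⊗[R] A) A) hls).toLinearEquiv)
  rw [Module.Flat.iff_lTensor_preserves_injective_linearMap]
  intro X Y _ _ _ _ j hj
  letI : Module R X := Module.compHom X (algebraMap R A)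
  letI : Module R Y := Module.compHom Y (algebraMap R A)
  haveI : IsScalarTower R A X := IsScalarTower.of_algebraMap_smul fun _ _ => rfl
  haveI : IsScalarTower R A Y := IsScalarTower.of_algebraMap_smul fun _ _ => rfl
  let qX := TensorProduct.mapOfCompatibleSMul A R A M X
  let qY := TensorProduct.mapOfCompatibleSMul A R A M Y
  let jR : M ⊗[R] X →ₗ[R] M ⊗[R] Y := (j.restrictScalars R).lTensor M
  have hjR : Function.Injective jR :=
    Module.Flat.lTensor_preserves_injective_linearMap (j.restrictScalars R) hj
  have hnat : ∀ t, qY (jR t) = j.lTensor M (qX t) := by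
    intro t
    induction t using TensorProduct.induction_on with
    | zero => simp
    | tmul m z => simp [qX, qY, jR]
    | add a b ha hb => simp only [map_add, ha, hb]
  have hρnat : ∀ (e : A ⊗[R] A) t, jR (actionHom M X e t) = actionHom M Y e (jR t) := by
    intro e t
    induction t using TensorProduct.induction_on with
    | zero => simp
    | tmul m z =>
      induction e using TensorProduct.induction_on with
      | zero => simp
      | tmul a b => simp [jR, actionHom_tmul]
      | add a b ha hb => simp only [map_add, LinearMap.add_apply, ha, hb]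
    | add a b ha hb => simp only [map_add, ha, hb]
  have hρq : ∀ (e : A ⊗[R] A) (t : M ⊗[R] X), qX (actionHom M X e t) = l e • qX t := by
    intro e t
    induction t using TensorProduct.induction_on with
    | zero => simp
    | tmul m z =>
      induction e using TensorProduct.induction_on with
      | zero => simp
      | tmul a b =>
        rw [actionHom_tmul]
        show (a • m) ⊗ₜ[A] (b • z) = l (a ⊗ₜ b) • (m ⊗ₜ[A] z)
        rw [TensorProduct.tmul_smul, ← TensorProduct.smul_tmul', smul_smul, show l (a ⊗ₜ b) = a * b by simp [l],
          mul_comm b a]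
      | add a b ha hb => simp only [map_add, LinearMap.add_apply, add_smul, ha, hb]
    | add a b ha hb => simp only [map_add, smul_add, ha, hb]
  -- elements of the kernel are fixed by the action of an element of the pure ideal
  have hfix : ∀ w ∈ LinearMap.ker qY, ∃ e ∈ I, actionHom M Y e w = w := by
    intro w hw
    rw [show LinearMap.ker qY = _ from TensorProduct.AlgebraTensorModule.ker_mapOfCompatibleSMul A M] at hw
    induction hw using Submodule.span_induction with
    | mem w hw =>
      obtain ⟨a, m, n, rfl⟩ := hw
      have hd : a ⊗ₜ[R] (1 : A) - (1 : A) ⊗ₜ[R] a ∈ I := by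
        show l _ = 0
        simp [l]
      obtain ⟨e, he, hde⟩ := Ideal.exists_eq_mul_of_pure hd
      refine ⟨e, he, ?_⟩
      have hw' : (a • m) ⊗ₜ[R] n - m ⊗ₜ[R] (a • n) =
          actionHom M Y (a ⊗ₜ[R] (1 : A) - (1 : A) ⊗ₜ[R] a) (m ⊗ₜ[R] n) := by
        simp [actionHom_tmul]
      rw [hw', ← Module.End.mul_apply, ← map_mul, mul_comm, ← hde]
    | zero => exact ⟨0, I.zero_mem, by simp⟩
    | add x y _ _ hx hy =>
      obtain ⟨e, he, hex⟩ := hx
      obtain ⟨e', he', hey⟩ := hy
      refine ⟨e + e' - e * e', I.sub_mem (I.add_mem he he') (I.mul_mem_right _ he), ?_⟩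
      have hx' : actionHom M Y (e * e') x = actionHom M Y e' x := by
        rw [mul_comm, map_mul, Module.End.mul_apply, hex]
      have hy' : actionHom M Y (e * e') y = actionHom M Y e y := by
        rw [map_mul, Module.End.mul_apply, hey]
      simp only [map_sub, map_add, LinearMap.sub_apply, LinearMap.add_apply, hex, hey, hx', hy']
      abel
    | smul c x _ hx =>
      obtain ⟨e, he, hex⟩ := hx
      refine ⟨e, he, ?_⟩
      have hc : ∀ t : M ⊗[R] Y, c • t = actionHom M Y (c ⊗ₜ[R] 1) t := by
        intro t
        induction t using TensorProduct.induction_on with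
        | zero => simp
        | tmul m z => simp [actionHom_tmul, TensorProduct.smul_tmul']
        | add a b ha hb => simp only [smul_add, map_add, ha, hb]
      rw [hc, ← Module.End.mul_apply, ← map_mul, mul_comm, map_mul, Module.End.mul_apply, hex]
  refine (injective_iff_map_eq_zero _).2 fun z hz => ?_
  obtain ⟨z', rfl⟩ := TensorProduct.mapOfCompatibleSMul_surjective A R A M X z
  obtain ⟨e, he, hw⟩ := hfix (jR z') (LinearMap.mem_ker.2 ((hnat z').trans hz))
  have h : actionHom M X e z' = z' := hjR ((hρnat e z').trans hw)
  show qX z' = 0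
  rw [← h, hρq, show l e = 0 from he, zero_smul]

end Groth.Agent.WeakEt
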