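import Groth.Agent.DRingKP.ResAmp
import Groth.Agent.DRingKP.Amp
import Groth.Agent.DRingKP.TorMore
import Groth.Agent.WeakEt.Module
import Mathlib.RingTheory.Etale.Weakly

/-!
# Tor amplitude along weakly étale ring maps
-/

set_option autoImplicit false
set_option linter.style.haveILetI false
universe u

namespace Groth.Agent.WeakEt

open CategoryTheory Limits DerivedCategory HomologicalComplex Groth.Agent.DRingKP

attribute [local instance] HasDerivedCategory.standard

variable {A B : Type u} [CommRing A] [CommRing B] [Algebra A B] [Algebra.WeaklyEtale A B]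

theorem amp_res_of_weaklyEtale (a b : ℤ) (K : Dual.D B) (h : DRing.HasTorAmplitudeIn B a b K) :
    DRing.HasTorAmplitudeIn A a b ((DRing.restrictD (algebraMap A B)).obj K) := by
  obtain ⟨E, hE, hEf, ⟨e⟩⟩ := h
  refine ⟨((ModuleCat.restrictScalars.{u} (algebraMap A B)).mapHomologicalComplex (ComplexShape.up ℤ)).obj E,
    fun i hi => (ModuleCat.restrictScalars.{u} (algebraMap A B)).map_isZero (hE i hi), fun i => ?_,
    ⟨((ModuleCat.restrictScalars.{u} (algebraMap A B)).mapDerivedCategoryFactors.app E).symm ≪≫
      (DRing.restrictD (algebraMap A B)).mapIso e⟩⟩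
  letI : Module A (E.X i) := Module.compHom _ (algebraMap A B)
  haveI : IsScalarTower A B (E.X i) := ⟨fun a b x => by rw [Algebra.smul_def, mul_smul]; rfl⟩
  haveI := hEf i
  exact (Module.Flat.trans A B (E.X i) : Module.Flat A (E.X i))

theorem amp_of_res_of_weaklyEtale (a b : ℤ) (K : Dual.D B)
    (h : DRing.HasTorAmplitudeIn A a b ((DRing.restrictD (algebraMap A B)).obj K)) :
    DRing.HasTorAmplitudeIn B a b K := by
  have hKb : IsAbove (b + 1) K := (isAbove_res (algebraMap A B)).1 (torVan_isAbove h)
  obtain ⟨P, c₀, hc₀, hP, ⟨e⟩⟩ := exists_proj_rep_le K ⟨_, hKb⟩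
  let c := max c₀ a
  have hc : DRing.VanishesAbove P c := fun i hi => hc₀ i (lt_of_le_of_lt (le_max_left _ _) hi)
  refine amp_shrink (b := c) ?_ hKb
  have hPf : DRing.TermwiseFlat P := flat_of_projective hP
  let res := ModuleCat.restrictScalars.{u} (algebraMap A B)
  let Q : DRing.Cx A := (res.mapHomologicalComplex (ComplexShape.up ℤ)).obj P
  have hQf : DRing.TermwiseFlat Q := fun i => by
    letI : Module A (P.X i) := Module.compHom _ (algebraMap A B)
    haveI : IsScalarTower A B (P.X i) := ⟨fun x y z => by rw [Algebra.smul_def, mul_smul]; rfl⟩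
    haveI := hPf i
    exact (Module.Flat.trans A B (P.X i) : Module.Flat A (P.X i))
  have hampQ : DRing.HasTorAmplitudeIn A a b (DRing.toD Q) :=
    amp_of_iso ((res.mapDerivedCategoryFactors.app P).symm ≪≫ (DRing.restrictD (algebraMap A B)).mapIso e).symm h
  have hflatA := flat_coker_of_amp (b := c) (fun i hi => res.map_isZero (hc i hi)) hQf hampQ
  have hflatQ : Module.Flat B (P.X a ⧸ LinearMap.range (P.d (a - 1) a).hom) := by
    letI : Module A (P.X a) := Module.compHom _ (algebraMap A B)
    haveI : IsScalarTower A B (P.X a) := ⟨fun x b y => by rw [Algebra.smul_def, mul_smul]; rfl⟩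
    haveI : Module.Flat A (P.X a ⧸ LinearMap.range (P.d (a - 1) a).hom) := by
      haveI := hflatA
      exact Module.Flat.of_linearEquiv (M := Q.X a ⧸ LinearMap.range (Q.d (a - 1) a).hom)
        { toFun := fun x => x
          map_add' := fun _ _ => rfl
          map_smul' := fun r x => by
            obtain ⟨y, rfl⟩ := Submodule.Quotient.mk_surjective _ x
            rfl
          invFun := fun x => x
          left_inv := fun _ => rfl
          right_inv := fun _ => rfl }
    exact flat_of_flat_lmul (Algebra.WeaklyEtale.flat_lmul' A B) _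
  haveI : P.IsGE a := (CochainComplex.isGE_iff P a).2 fun i hi => by
    rw [HomologicalComplex.exactAt_iff_isZero_homology]
    obtain ⟨E, hE, -, ⟨e'⟩⟩ := hampQ
    have h1 : IsZero (Q.homology i) :=
      (((ShortComplex.isZero_homology_of_isZero_X₂ _ (hE i (Or.inl hi))).of_iso
        ((homologyFunctorFactors _ i).app E)).of_iso
          ((DerivedCategory.homologyFunctor (ModuleCat.{u} A) i).mapIso e').symm).of_iso
            ((homologyFunctorFactors _ i).app Q).symm
    refine (exactAt_iff_isZero_homology P i).1 ?_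
    have h2 := (exactAt_iff_isZero_homology Q i).2 h1
    rw [HomologicalComplex.exactAt_iff] at h2 ⊢
    exact (ShortComplex.exact_map_iff_of_faithful _ res).1 h2
  haveI : QuasiIso (P.πTruncGE a) := (CochainComplex.quasiIso_πTruncGE_iff P a).2 inferInstance
  let E := P.truncGE a
  let T := P.sc' (a - 1) a (a + 1)
  let eop : E.X a ≅ ModuleCat.of B (P.X a ⧸ LinearMap.range (P.d (a - 1) a).hom) :=
    P.truncGEXIsoOpcycles a ≪≫ P.opcyclesIsoSc' (a - 1) a (a + 1) (by simp) (by simp) ≪≫
      T.moduleCatOpcyclesIso
  haveI : P.IsStrictlyLE c := (CochainComplex.isStrictlyLE_iff P c).2 hc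
  have hE : DRing.VanishesOutside E a c := fun i hi => by
    rcases hi with hi | hi
    · exact E.isZero_of_isStrictlyGE a i hi
    · exact E.isZero_of_isStrictlyLE c i hi
  refine ⟨E, hE, fun i => ?_, ⟨(asIso (DerivedCategory.Q.map (P.πTruncGE a))).symm ≪≫ e⟩⟩
  rcases lt_trichotomy i a with hi | rfl | hi
  · haveI := ModuleCat.subsingleton_of_isZero (hE i (Or.inl hi))
    infer_instance
  · haveI := hflatQ
    exact Module.Flat.of_linearEquiv eop.toLinearEquiv
  · haveI := hPf i
    exact Module.Flat.of_linearEquiv (P.truncGEXIso a i hi).toLinearEquiv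

theorem amp_res_iff (a b : ℤ) (K : Dual.D B) :
    DRing.HasTorAmplitudeIn A a b ((DRing.restrictD (algebraMap A B)).obj K) ↔
      DRing.HasTorAmplitudeIn B a b K :=
  ⟨amp_of_res_of_weaklyEtale a b K, amp_res_of_weaklyEtale a b K⟩

end Groth.Agent.WeakEt
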