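import Groth.Agent.WeakEt.Basic
import Groth.Agent.Hensel.HenselizationMore
import Groth.Agent.Hensel.Henselization
import Groth.Agent.S0427
import Groth.Agent.S0736
import Groth.Agent.S12237
import Mathlib

/-!
# Weakly étale local homomorphisms and strict henselizations
-/

set_option autoImplicit false
set_option linter.style.haveILetI false
set_option backward.isDefEq.respectTransparency false

universe u

open IsLocalRing

namespace Groth.Agent.WeakEt

theorem weaklyEtale_strictHenselization (R S : Type u) [CommRing R] [IsLocalRing R] [CommRing S]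
    [IsLocalRing S] [Algebra R S] [IsLocalHom (algebraMap R S)] [_root_.Hensel.IsStrictHenselization R S] :
    Algebra.WeaklyEtale R S :=
  S0736.result R S (S12237.result R S)

/-- Transport of a strict henselization along an isomorphism. -/
theorem isStrictHenselization_of_algEquiv {R S T : Type u} [CommRing R] [IsLocalRing R] [CommRing S]
    [IsLocalRing S] [CommRing T] [IsLocalRing T] [Algebra R S] [Algebra R T]
    [IsLocalHom (algebraMap R S)] [IsLocalHom (algebraMap R T)] (e : S ≃ₐ[R] T)
    [hS : _root_.Hensel.IsStrictHenselization R S] [HenselianLocalRing T] :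
    _root_.Hensel.IsStrictHenselization R T := by
  haveI := hS.isSepClosure.2
  haveI : IsSepClosed (ResidueField S) := hS.isSepClosure.1
  let eκ : ResidueField S ≃+* ResidueField T := ResidueField.mapEquiv e.toRingEquiv
  have hκ : ∀ a, eκ (ResidueField.map (algebraMap R S) (residue R a)) =
      ResidueField.map (algebraMap R T) (residue R a) := fun a =>
    congrArg (residue T) (e.commutes a)
  let eκA : ResidueField S ≃ₐ[ResidueField R] ResidueField T := AlgEquiv.ofRingEquiv (f := eκ) fun x => by
    obtain ⟨a, rfl⟩ := residue_surjective x
    exact hκ a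
  refine ⟨‹_›, ⟨Hensel.isSepClosed_of_ringEquiv eκ,
    Algebra.IsSeparable.of_algHom _ _ eκA.symm.toAlgHom⟩, fun C _ _ f _ τ hτ => ?_⟩
  obtain ⟨g, ⟨hg, hgτ⟩, huniq⟩ := hS.universal C f (τ.comp eκ.toRingHom) (RingHom.ext fun x => by
    obtain ⟨a, rfl⟩ := residue_surjective x
    show τ (eκ (ResidueField.map (algebraMap R S) (residue R a))) = _
    rw [hκ]
    exact RingHom.congr_fun hτ (residue R a))
  refine ⟨g.comp e.symm.toAlgHom.toRingHom, ⟨RingHom.ext fun a => ?_, fun x => ?_⟩, fun g' hg' => ?_⟩
  · show g (e.symm (algebraMap R T a)) = _
    rw [e.symm.commutes]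
    exact RingHom.congr_fun hg a
  · show residue C (g (e.symm x)) = _
    rw [hgτ]
    show τ (residue T (e (e.symm x))) = _
    rw [e.apply_symm_apply]
  · have := huniq (g'.comp e.toAlgHom.toRingHom) ⟨RingHom.ext fun a => by
      show g' (e (algebraMap R S a)) = _
      rw [e.commutes]
      exact RingHom.congr_fun hg'.1 a, fun x => hg'.2 (e x)⟩
    refine RingHom.ext fun x => ?_
    show g' x = g (e.symm x)
    rw [← this]
    show g' x = g' (e (e.symm x))
    rw [e.apply_symm_apply]

/-- A weakly étale local algebra with strictly henselian target is a strict henselization. -/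
theorem isStrictHenselization_aux (A S R : Type u) [CommRing A] [CommRing S] [CommRing R]
    [IsLocalRing A] [IsLocalRing S] [IsLocalRing R] [Algebra A S] [Algebra A R]
    [IsLocalHom (algebraMap A S)] [IsLocalHom (algebraMap A R)] [Algebra.WeaklyEtale A R]
    [HenselianLocalRing R] [IsSepClosed (ResidueField R)] [hS : _root_.Hensel.IsStrictHenselization A S] :
    _root_.Hensel.IsStrictHenselization A R := by
  haveI := hS.henselian
  haveI : IsSepClosed (ResidueField S) := hS.isSepClosure.1
  haveI : Algebra.IsSeparable (ResidueField A) (ResidueField S) := hS.isSepClosure.2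
  haveI := weaklyEtale_strictHenselization A S
  let τ : ResidueField S →ₐ[ResidueField A] ResidueField R := IsSepClosed.lift
  obtain ⟨g, ⟨hg, hgτ⟩, -⟩ := hS.universal R (algebraMap A R) τ.toRingHom (RingHom.ext fun x => τ.commutes x)
  letI := g.toAlgebra
  haveI : IsScalarTower A S R := IsScalarTower.of_algebraMap_eq' hg.symm
  haveI : IsLocalHom (algebraMap S R) := ⟨fun s hs => by
    by_contra hns
    refine (residue_ne_zero_iff_isUnit _).2 hs ?_
    show residue R (g s) = 0
    rw [hgτ]
    rw [(residue_eq_zero_iff s).2 hns, map_zero]⟩
  haveI : Algebra.WeaklyEtale S R := weaklyEtale_of_comp A S R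
  have hbij : Function.Bijective (algebraMap S R) := S0427.result
  exact isStrictHenselization_of_algEquiv (AlgEquiv.ofBijective (IsScalarTower.toAlgHom A S R) hbij)

/-- A strict henselization of the target of a weakly étale local homomorphism is one of the source. -/
theorem isStrictHenselization_of_weaklyEtale (A B R : Type u) [CommRing A] [CommRing B] [CommRing R]
    [IsLocalRing A] [IsLocalRing B] [IsLocalRing R] [Algebra A B] [Algebra B R] [Algebra A R]
    [IsScalarTower A B R] [IsLocalHom (algebraMap A B)] [IsLocalHom (algebraMap B R)]
    [IsLocalHom (algebraMap A R)] [Algebra.WeaklyEtale A B] [hR : _root_.Hensel.IsStrictHenselization B R] :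
    _root_.Hensel.IsStrictHenselization A R := by
  haveI := hR.henselian
  haveI : IsSepClosed (ResidueField R) := hR.isSepClosure.1
  haveI := weaklyEtale_strictHenselization B R
  haveI : Algebra.WeaklyEtale A R := Algebra.WeaklyEtale.trans A B R
  obtain ⟨hl, hS⟩ := Hensel.exists_strictHenselization A
  exact isStrictHenselization_aux A (Hensel.Env A (SeparableClosure (ResidueField A))) R (hS := hS)


/-- If a strict henselization of the target is one of the source, the map is weakly étale. -/
theorem weaklyEtale_of_isStrictHenselization (A B R : Type u) [CommRing A] [CommRing B] [CommRing R]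
    [IsLocalRing A] [IsLocalRing B] [IsLocalRing R] [Algebra A B] [Algebra B R] [Algebra A R]
    [IsScalarTower A B R] [IsLocalHom (algebraMap B R)] [IsLocalHom (algebraMap A R)]
    [_root_.Hensel.IsStrictHenselization A R] [_root_.Hensel.IsStrictHenselization B R] :
    Algebra.WeaklyEtale A B := by
  haveI := weaklyEtale_strictHenselization A R
  haveI : Module.FaithfullyFlat B R := Hensel.strictHenselization_faithfullyFlat B R
  exact weaklyEtale_of_faithfullyFlat A B R

end Groth.Agent.WeakEt
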