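import Groth.Agent.WeakEt.Basic

/-! Weakly étale morphisms of schemes and weakly étale algebras. -/

set_option autoImplicit false
universe u

open CategoryTheory CategoryTheory.Limits AlgebraicGeometry TensorProduct

namespace Groth.Agent.WeakEt

theorem specMap_iff {R S : CommRingCat.{u}} (φ : R ⟶ S) :
    WeaklyEtale (Spec.map φ) ↔ (letI := φ.hom.toAlgebra; Algebra.WeaklyEtale R S) := by
  letI := φ.hom.toAlgebra
  have key : Flat (pullback.diagonal (Spec.map φ)) ↔
      (Algebra.TensorProduct.lmul' R (S := S)).toRingHom.Flat := by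
    show _ ↔ (CommRingCat.ofHom (Algebra.TensorProduct.lmul' R (S := S)).toRingHom).hom.Flat
    rw [← Flat.SpecMap_iff,
      show φ = CommRingCat.ofHom (algebraMap R S) from rfl, AlgebraicGeometry.diagonal_SpecMap R S,
      MorphismProperty.cancel_right_of_respectsIso (P := @Flat)]
  constructor
  · intro h
    haveI : Module.Flat R S := Flat.SpecMap_iff.1 (inferInstance : Flat (Spec.map φ))
    exact ⟨inferInstance, key.1 inferInstance⟩
  · intro h
    haveI : Flat (Spec.map φ) := Flat.SpecMap_iff.2 h.flat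
    haveI := key.2 h.flat_lmul'
    exact {}

theorem appLE {X S : Scheme.{u}} (f : X ⟶ S) [WeaklyEtale f] {U : X.Opens} {V : S.Opens}
    (hU : IsAffineOpen U) (hV : IsAffineOpen V) (hUV : U ≤ f ⁻¹ᵁ V) :
    (letI := (f.appLE V U hUV).hom.toAlgebra; Algebra.WeaklyEtale Γ(S, V) Γ(X, U)) := by
  haveI : IsAffine U.toScheme := hU
  haveI : IsAffine V.toScheme := hV
  have h : WeaklyEtale (Spec.map (f.appLE V U hUV)) := by
    have e : Spec.map (f.appLE V U hUV) = hU.isoSpec.inv ≫ f.resLE V U hUV ≫ hV.isoSpec.hom := by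
      rw [← cancel_mono hV.fromSpec, IsAffineOpen.SpecMap_appLE_fromSpec f hV hU hUV]
      simp only [Category.assoc]
      rw [← hV.isoSpec_inv_ι, Iso.hom_inv_id_assoc, Scheme.Hom.resLE_comp_ι, ← hU.isoSpec_inv_ι, Category.assoc]
    rw [e, MorphismProperty.cancel_left_of_respectsIso (P := @WeaklyEtale),
      MorphismProperty.cancel_right_of_respectsIso (P := @WeaklyEtale)]
    infer_instance
  exact (specMap_iff _).1 h

theorem of_forall_appLE {X S : Scheme.{u}} (f : X ⟶ S)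
    (h : ∀ (U : X.Opens) (V : S.Opens) (_ : IsAffineOpen U) (_ : IsAffineOpen V) (hUV : U ≤ f ⁻¹ᵁ V),
      (letI := (f.appLE V U hUV).hom.toAlgebra; Algebra.WeaklyEtale Γ(S, V) Γ(X, U))) :
    WeaklyEtale f := by
  rw [IsZariskiLocalAtTarget.iff_of_iSup_eq_top (P := @WeaklyEtale) (fun V : S.affineOpens => V.1)
    (iSup_affineOpens_eq_top S)]
  intro V
  rw [IsZariskiLocalAtSource.iff_of_iSup_eq_top (P := @WeaklyEtale)
    (fun U : (f ⁻¹ᵁ V.1).toScheme.affineOpens => U.1) (iSup_affineOpens_eq_top _)]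
  intro U
  let U' : X.Opens := (f ⁻¹ᵁ V.1).ι ''ᵁ U.1
  have hU' : IsAffineOpen U' := U.2.image_of_isOpenImmersion _
  have hle : U' ≤ f ⁻¹ᵁ V.1 := (f ⁻¹ᵁ V.1).ι_image_le U.1
  haveI : IsAffine U'.toScheme := hU'
  haveI : IsAffine V.1.toScheme := V.2
  have e : Spec.map (f.appLE V.1 U' hle) = hU'.isoSpec.inv ≫ f.resLE V.1 U' hle ≫ V.2.isoSpec.hom := by
    rw [← cancel_mono V.2.fromSpec, IsAffineOpen.SpecMap_appLE_fromSpec f V.2 hU' hle]
    simp only [Category.assoc]
    rw [← V.2.isoSpec_inv_ι, Iso.hom_inv_id_assoc, Scheme.Hom.resLE_comp_ι, ← hU'.isoSpec_inv_ι, Category.assoc]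
  have hS : WeaklyEtale (f.resLE V.1 U' hle) := by
    have h1 := (specMap_iff (f.appLE V.1 U' hle)).2 (h U' V.1 hU' V.2 hle)
    rwa [e, MorphismProperty.cancel_left_of_respectsIso (P := @WeaklyEtale),
      MorphismProperty.cancel_right_of_respectsIso (P := @WeaklyEtale)] at h1
  have e2 : U.1.ι ≫ f ∣_ V.1 = ((f ⁻¹ᵁ V.1).ι.isoImage U.1).hom ≫ f.resLE V.1 U' hle := by
    rw [← cancel_mono V.1.ι]
    simp [U']
  rw [e2, MorphismProperty.cancel_left_of_respectsIso (P := @WeaklyEtale)]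
  exact hS

theorem isReduced {X Y : Scheme.{u}} (f : X ⟶ Y) [WeaklyEtale f] [IsReduced Y] : IsReduced X := by
  refine (IsReduced.iff_of_openCover X (Scheme.Cover.mkOfCovers
    {U : X.Opens // IsAffineOpen U ∧ ∃ V : Y.Opens, IsAffineOpen V ∧ U ≤ f ⁻¹ᵁ V}
    (fun U => Spec Γ(X, U.1)) (fun U => U.2.1.fromSpec) ?_ fun U => U.2.1.isOpenImmersion_fromSpec)).2 fun U => ?_
  · intro x
    obtain ⟨V, hV, hxV, -⟩ := exists_isAffineOpen_mem_and_subset (U := ⊤) (x := f x) trivial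
    obtain ⟨U, hU, hxU, hUV⟩ := exists_isAffineOpen_mem_and_subset (U := f ⁻¹ᵁ V) (x := x) hxV
    exact ⟨⟨U, hU, V, hV, hUV⟩, hU.range_fromSpec.ge hxU⟩
  · obtain ⟨U, hU, V, hV, hUV⟩ := U
    letI := (f.appLE V U hUV).hom.toAlgebra
    haveI := appLE f hU hV hUV
    haveI : _root_.IsReduced Γ(X, U) := isReduced_of_weaklyEtale Γ(Y, V) Γ(X, U)
    show IsReduced (Spec Γ(X, U))
    infer_instance

end Groth.Agent.WeakEt
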