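import Groth.Agent.WeakEt.Scheme
import Groth.Agent.FibreFlat.Stalk
import Groth.Agent.CMFlat.Comp

/-! Flat diagonals and multiplication maps of local rings. -/

set_option autoImplicit false
universe u

open CategoryTheory CategoryTheory.Limits AlgebraicGeometry TensorProduct

set_option backward.isDefEq.respectTransparency false

namespace Groth.Agent.WeakEt

theorem flat_diagonal_comp {X Y Z : Scheme.{u}} (i : X ⟶ Y) (f : Y ⟶ Z) [Mono i] [Flat (pullback.diagonal f)] :
    Flat (pullback.diagonal (i ≫ f)) := by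
  haveI : IsIso (pullback.diagonal i) := (pullback.isIso_diagonal_iff i).2 ‹_›
  exact MorphismProperty.comp_mem (MorphismProperty.diagonal @Flat) i f
    (show Flat (pullback.diagonal i) from inferInstance) ‹_›

theorem flat_diagonal_of_comp_mono {X Y Z : Scheme.{u}} (g : X ⟶ Y) (m : Y ⟶ Z) [Mono m]
    [Flat (pullback.diagonal (g ≫ m))] : Flat (pullback.diagonal g) := by
  let p : pullback g g ⟶ pullback (g ≫ m) (g ≫ m) :=
    pullback.map _ _ _ _ (𝟙 X) (𝟙 X) m (by simp) (by simp)
  haveI : IsIso p := by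
    refine ⟨⟨pullback.lift (pullback.fst _ _) (pullback.snd _ _) ?_, ?_, ?_⟩⟩
    · rw [← cancel_mono m]
      simpa only [Category.assoc] using pullback.condition
    · apply pullback.hom_ext <;> simp [p]
    · apply pullback.hom_ext <;> simp [p]
  have e : pullback.diagonal g ≫ p = pullback.diagonal (g ≫ m) := by
    apply pullback.hom_ext <;> simp [p]
  rw [← MorphismProperty.cancel_right_of_respectsIso (P := @Flat) (pullback.diagonal g) p, e]
  infer_instance

theorem flat_lmul_of_flat_diagonal {R S : CommRingCat.{u}} (φ : R ⟶ S) [Flat (pullback.diagonal (Spec.map φ))] :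
    (letI := φ.hom.toAlgebra; (Algebra.TensorProduct.lmul' R (S := S)).toRingHom.Flat) := by
  letI := φ.hom.toAlgebra
  show (CommRingCat.ofHom (Algebra.TensorProduct.lmul' R (S := S)).toRingHom).hom.Flat
  rw [← Flat.SpecMap_iff, ← MorphismProperty.cancel_right_of_respectsIso (P := @Flat) _
    (pullbackSpecIso R S S).inv, ← AlgebraicGeometry.diagonal_SpecMap R S]
  exact ‹Flat (pullback.diagonal (Spec.map φ))›

theorem flat_lmul_stalk {X Y : Scheme.{u}} (f : X ⟶ Y) [Flat (pullback.diagonal f)] (x : X) :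
    (letI := (f.stalkMap x).hom.toAlgebra
     (Algebra.TensorProduct.lmul' (S := ↑(X.presheaf.stalk x)) (↑(Y.presheaf.stalk (f x)))).toRingHom.Flat) := by
  haveI := flat_diagonal_comp (X.fromSpecStalk x) f
  haveI : Flat (pullback.diagonal (Spec.map (f.stalkMap x) ≫ Y.fromSpecStalk (f x))) := by
    rw [Scheme.SpecMap_stalkMap_fromSpecStalk]; infer_instance
  haveI := flat_diagonal_of_comp_mono (Spec.map (f.stalkMap x)) (Y.fromSpecStalk (f x))
  exact flat_lmul_of_flat_diagonal (f.stalkMap x)

end Groth.Agent.WeakEt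

namespace Groth.Agent.WeakEt

theorem flat_diagonal_specMap {R S : CommRingCat.{u}} (φ : R ⟶ S)
    (h : letI := φ.hom.toAlgebra; (Algebra.TensorProduct.lmul' R (S := S)).toRingHom.Flat) :
    Flat (pullback.diagonal (Spec.map φ)) := by
  letI := φ.hom.toAlgebra
  have h' : (CommRingCat.ofHom (Algebra.TensorProduct.lmul' R (S := S)).toRingHom).hom.Flat := h
  rw [← Flat.SpecMap_iff, ← MorphismProperty.cancel_right_of_respectsIso (P := @Flat) _
    (pullbackSpecIso R S S).inv, ← AlgebraicGeometry.diagonal_SpecMap R S] at h'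
  exact h'

theorem flat_diagonal_comp_mono {X Y Z : Scheme.{u}} (g : X ⟶ Y) (m : Y ⟶ Z) [Mono m]
    [Flat (pullback.diagonal g)] : Flat (pullback.diagonal (g ≫ m)) := by
  haveI : IsIso (pullback.diagonal m) := (pullback.isIso_diagonal_iff m).2 ‹_›
  exact MorphismProperty.comp_mem (MorphismProperty.diagonal @Flat) g m ‹_›
    (show Flat (pullback.diagonal m) from inferInstance)

theorem weaklyEtale_of_stalkMaps {X Y : Scheme.{u}} (f : X ⟶ Y)
    (h : ∀ x : X, (f.stalkMap x).hom.Flat ∧
      (letI := (f.stalkMap x).hom.toAlgebra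
       (Algebra.TensorProduct.lmul' (S := ↑(X.presheaf.stalk x)) (↑(Y.presheaf.stalk (f x)))).toRingHom.Flat)) :
    WeaklyEtale f := by
  refine ⟨Flat.of_stalkMap _ fun x => (h x).1, Flat.of_stalkMap _ fun x => ?_⟩
  let i := X.fromSpecStalk x
  haveI := flat_diagonal_specMap (f.stalkMap x) (h x).2
  haveI := flat_diagonal_comp_mono (Spec.map (f.stalkMap x)) (Y.fromSpecStalk (f x))
  haveI : Flat (pullback.diagonal (i ≫ f)) := by
    rw [← Scheme.SpecMap_stalkMap_fromSpecStalk]; infer_instance
  haveI : Flat i := GrpField.flat_fromSpecStalk _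
  let p : pullback (i ≫ f) (i ≫ f) ⟶ pullback f f :=
    pullback.map _ _ _ _ i i (𝟙 Y) (by simp) (by simp)
  haveI : Flat p := MorphismProperty.pullbackMap (P := @Flat) ‹_› ‹_› (by simp) (by simp)
  have e : pullback.diagonal (i ≫ f) ≫ p = i ≫ pullback.diagonal f := by
    apply pullback.hom_ext <;> simp [p]
  haveI : Flat (i ≫ pullback.diagonal f) := e ▸ inferInstance
  have h2 := FibreFlat.flatAt_of_comp (g := pullback.diagonal f)
    (FibreFlat.flatAt_of_flat i (IsLocalRing.closedPoint _)) (FibreFlat.flatAt_of_flat (i ≫ pullback.diagonal f) _)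
  rwa [Scheme.fromSpecStalk_closedPoint] at h2

end Groth.Agent.WeakEt
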