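import Groth.Agent.WeakEt.StrictHens
import Groth.Agent.S1412
import Groth.Prelude.Def_Pi1

/-!
# Weakly étale morphisms and strict henselizations of local rings
-/

set_option autoImplicit false
set_option linter.style.haveILetI false
set_option backward.isDefEq.respectTransparency false

universe u

open CategoryTheory AlgebraicGeometry IsLocalRing

namespace Groth.Agent.WeakEt

theorem exists_strict (A : Type u) [CommRing A] [IsLocalRing A] :
    ∃ (R : Type u) (_ : CommRing R) (_ : IsLocalRing R) (_ : Algebra A R)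
      (_ : IsLocalHom (algebraMap A R)), _root_.Hensel.IsStrictHenselization A R := by
  obtain ⟨hl, hS⟩ := Hensel.exists_strictHenselization A
  exact ⟨_, inferInstance, inferInstance, inferInstance, hl, hS⟩

theorem weaklyEtale_iff_strict {X Y : Scheme.{u}} (f : X ⟶ Y) :
    WeaklyEtale f ↔ ∀ (x : X) (R : Type u) [CommRing R] [IsLocalRing R]
      [Algebra ↑(X.presheaf.stalk x) R] [IsLocalHom (algebraMap ↑(X.presheaf.stalk x) R)]
      [_root_.Hensel.IsStrictHenselization ↑(X.presheaf.stalk x) R],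
      letI : Algebra ↑(Y.presheaf.stalk (f x)) R :=
        ((algebraMap ↑(X.presheaf.stalk x) R).comp (f.stalkMap x).hom).toAlgebra
      ∃ _ : IsLocalHom (algebraMap ↑(Y.presheaf.stalk (f x)) R),
        _root_.Hensel.IsStrictHenselization ↑(Y.presheaf.stalk (f x)) R := by
  rw [S1412.result]
  constructor
  · intro h x R _ _ _ _ _
    letI : Algebra ↑(Y.presheaf.stalk (f x)) ↑(X.presheaf.stalk x) := (f.stalkMap x).hom.toAlgebra
    letI : Algebra ↑(Y.presheaf.stalk (f x)) R :=
      ((algebraMap ↑(X.presheaf.stalk x) R).comp (f.stalkMap x).hom).toAlgebra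
    haveI : IsScalarTower ↑(Y.presheaf.stalk (f x)) ↑(X.presheaf.stalk x) R :=
      IsScalarTower.of_algebraMap_eq fun _ => rfl
    haveI : IsLocalHom (algebraMap ↑(Y.presheaf.stalk (f x)) ↑(X.presheaf.stalk x)) :=
      inferInstanceAs (IsLocalHom (f.stalkMap x).hom)
    haveI hl : IsLocalHom (algebraMap ↑(Y.presheaf.stalk (f x)) R) :=
      RingHom.isLocalHom_comp (algebraMap ↑(X.presheaf.stalk x) R) (f.stalkMap x).hom
    haveI : Algebra.WeaklyEtale ↑(Y.presheaf.stalk (f x)) ↑(X.presheaf.stalk x) := ⟨(h x).1, (h x).2⟩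
    exact ⟨hl, isStrictHenselization_of_weaklyEtale _ ↑(X.presheaf.stalk x) R⟩
  · intro h x
    obtain ⟨R, hR1, hR2, hR3, hl, hS⟩ := exists_strict ↑(X.presheaf.stalk x)
    obtain ⟨hl', hS'⟩ := h x R
    letI : Algebra ↑(Y.presheaf.stalk (f x)) ↑(X.presheaf.stalk x) := (f.stalkMap x).hom.toAlgebra
    letI : Algebra ↑(Y.presheaf.stalk (f x)) R :=
      ((algebraMap ↑(X.presheaf.stalk x) R).comp (f.stalkMap x).hom).toAlgebra
    haveI : IsScalarTower ↑(Y.presheaf.stalk (f x)) ↑(X.presheaf.stalk x) R :=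
      IsScalarTower.of_algebraMap_eq fun _ => rfl
    have hw := weaklyEtale_of_isStrictHenselization ↑(Y.presheaf.stalk (f x)) ↑(X.presheaf.stalk x) R
    exact ⟨hw.flat, hw.flat_lmul'⟩

/-- A scheme weakly étale over a normal scheme is normal. -/
theorem isNormalScheme_of_weaklyEtale {X Y : Scheme.{u}} (f : X ⟶ Y) [WeaklyEtale f]
    (hY : Pi1.IsNormalScheme Y) : Pi1.IsNormalScheme X := fun x => by
  obtain ⟨R, hR1, hR2, hR3, hl, hS⟩ := exists_strict ↑(X.presheaf.stalk x)
  obtain ⟨hl', hS'⟩ := (weaklyEtale_iff_strict f).1 ‹_› x R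
  letI : Algebra ↑(Y.presheaf.stalk (f x)) R :=
    ((algebraMap ↑(X.presheaf.stalk x) R).comp (f.stalkMap x).hom).toAlgebra
  haveI := hl'
  haveI := hS'
  exact (Hensel.strictHenselization_normal_iff ↑(X.presheaf.stalk x) R).1
    ((Hensel.strictHenselization_normal_iff ↑(Y.presheaf.stalk (f x)) R).2 (hY (f x)))

end Groth.Agent.WeakEt
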