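import Groth.Agent.WeakEt.StrictHensScheme
import Groth.Agent.Olivier.Valuation
import Mathlib

/-!
# A weakly étale algebra over a normal domain is integrally closed in its generic fibre
-/

set_option autoImplicit false
set_option linter.style.haveILetI false
set_option backward.isDefEq.respectTransparency false

universe u

open TensorProduct IsLocalRing

namespace Groth.Agent.WeakEt

/-- The local rings of a weakly étale algebra over a normal domain are normal domains. -/
theorem normal_localization (A B : Type u) [CommRing A] [IsDomain A] [IsIntegrallyClosed A] [CommRing B]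
    [Algebra A B] [Algebra.WeaklyEtale A B] (q : Ideal B) [q.IsPrime] :
    IsDomain (Localization.AtPrime q) ∧ IsIntegrallyClosed (Localization.AtPrime q) := by
  let p := q.comap (algebraMap A B)
  let Ap := Localization.AtPrime p
  let Bq := Localization.AtPrime q
  haveI : IsDomain Ap := IsLocalization.isDomain_localization p.primeCompl_le_nonZeroDivisors
  haveI : IsIntegrallyClosed Ap :=
    isIntegrallyClosed_of_isLocalization Ap p.primeCompl p.primeCompl_le_nonZeroDivisors
  letI : Algebra Ap Bq := (Localization.localRingHom p q (algebraMap A B) rfl).toAlgebra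
  haveI : IsScalarTower A Ap Bq := IsScalarTower.of_algebraMap_eq fun a =>
    (Localization.localRingHom_to_map p q (algebraMap A B) rfl a).symm
  haveI : IsLocalHom (algebraMap Ap Bq) := Localization.isLocalHom_localRingHom p q (algebraMap A B) rfl
  haveI : Algebra.WeaklyEtale A Ap := Olivier.weaklyEtale_localization p.primeCompl
  haveI : Algebra.WeaklyEtale B Bq := Olivier.weaklyEtale_localization q.primeCompl
  haveI : Algebra.WeaklyEtale A Bq := Algebra.WeaklyEtale.trans A B Bq
  haveI : Algebra.WeaklyEtale Ap Bq := weaklyEtale_of_comp A Ap Bq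
  obtain ⟨R, hR1, hR2, hR3, hl, hS⟩ := exists_strict Bq
  letI : Algebra Ap R := ((algebraMap Bq R).comp (algebraMap Ap Bq)).toAlgebra
  haveI : IsScalarTower Ap Bq R := IsScalarTower.of_algebraMap_eq fun _ => rfl
  haveI : IsLocalHom (algebraMap Ap R) := RingHom.isLocalHom_comp (algebraMap Bq R) (algebraMap Ap Bq)
  haveI := isStrictHenselization_of_weaklyEtale Ap Bq R
  exact (Hensel.strictHenselization_normal_iff Bq R).1
    ((Hensel.strictHenselization_normal_iff Ap R).2 ⟨inferInstance, inferInstance⟩)

theorem integrallyClosedIn (A : Type u) [CommRing A] [IsDomain A] [IsIntegrallyClosed A]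
    (K : Type u) [Field K] [Algebra A K] [IsFractionRing A K] (B : Type u) [CommRing B] [Algebra A B]
    [Algebra.WeaklyEtale A B] : IsIntegrallyClosedIn B (B ⊗[A] K) := by
  let M := Algebra.algebraMapSubmonoid B (nonZeroDivisors A)
  haveI : IsLocalization M (B ⊗[A] K) := IsLocalization.tensor K (nonZeroDivisors A)
  have hM : M ≤ nonZeroDivisors B := by
    rintro _ ⟨a, ha, rfl⟩
    have h := Module.Flat.isSMulRegular_of_isRegular (M := B)
      (isRegular_of_ne_zero (nonZeroDivisors.ne_zero ha))
    refine mem_nonZeroDivisors_iff_right.2 fun b hb => h ?_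
    show a • b = a • 0
    rw [smul_zero, Algebra.smul_def, mul_comm, hb]
  have hinj : Function.Injective (algebraMap B (B ⊗[A] K)) := IsLocalization.injective _ hM
  refine isIntegrallyClosedIn_iff.2 ⟨hinj, fun {z} hz => ?_⟩
  obtain ⟨b, ⟨s, hs⟩, rfl⟩ := IsLocalization.exists_mk'_eq M z
  obtain ⟨a, ha, rfl⟩ := hs
  suffices h : b ∈ Ideal.span {algebraMap A B a} by
    obtain ⟨y, hy⟩ := Ideal.mem_span_singleton'.1 h
    exact ⟨y, (IsLocalization.eq_mk'_iff_mul_eq).2 (by rw [← map_mul, hy])⟩
  let J : Ideal B := Submodule.colon (Ideal.span {algebraMap A B a}) {b}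
  have hJ : ∀ c, c ∈ J ↔ c * b ∈ Ideal.span {algebraMap A B a} := fun c => by
    simp [J, Submodule.mem_colon_singleton]
  suffices h : J = ⊤ by
    have := (hJ 1).1 (h ▸ trivial)
    rwa [one_mul] at this
  by_contra hne
  obtain ⟨q, hq, hJq⟩ := Ideal.exists_le_maximal J hne
  haveI : q.IsPrime := hq.isPrime
  let Bq := Localization.AtPrime q
  obtain ⟨hd, hic⟩ := normal_localization A B q
  haveI := hd
  let L := FractionRing Bq
  have hunit : ∀ m : M, IsUnit (algebraMap B L m) := by
    rintro ⟨_, a', ha', rfl⟩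
    refine isUnit_iff_ne_zero.2 ?_
    rw [IsScalarTower.algebraMap_apply B Bq L, Ne, IsFractionRing.to_map_eq_zero_iff,
      IsLocalization.map_eq_zero_iff q.primeCompl]
    rintro ⟨⟨c, hc⟩, hc0⟩
    have : c = 0 := (mem_nonZeroDivisors_iff_right.1 (hM ⟨a', ha', rfl⟩)) c hc0
    exact hc (this ▸ q.zero_mem)
  let ι : B ⊗[A] K →+* L := IsLocalization.lift hunit
  have hι : ∀ y, ι (algebraMap B (B ⊗[A] K) y) = algebraMap B L y := fun y => IsLocalization.lift_eq hunit y
  have h1 : IsIntegral Bq (ι (IsLocalization.mk' (B ⊗[A] K) b (⟨algebraMap A B a, a, ha, rfl⟩ : M))) := by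
    refine IsIntegral.tower_top (R := B) ?_
    let ιA : B ⊗[A] K →ₐ[B] L := { ι with commutes' := hι }
    exact hz.map ιA
  obtain ⟨y, hy⟩ := IsIntegrallyClosed.isIntegral_iff.1 h1
  obtain ⟨b', c, rfl⟩ := IsLocalization.exists_mk'_eq q.primeCompl y
  have h2 : algebraMap B Bq b = IsLocalization.mk' Bq b' c * algebraMap B Bq (algebraMap A B a) := by
    apply IsFractionRing.injective Bq L
    rw [map_mul, hy, ← IsScalarTower.algebraMap_apply B Bq L, ← IsScalarTower.algebraMap_apply B Bq L,
      ← hι b, ← hι (algebraMap A B a), ← map_mul, IsLocalization.mk'_spec]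
  rw [mul_comm, IsLocalization.mul_mk'_eq_mk'_of_mul, IsLocalization.eq_mk'_iff_mul_eq, ← map_mul,
    IsLocalization.eq_iff_exists q.primeCompl] at h2
  obtain ⟨d, hd2⟩ := h2
  have : (d : B) * c ∈ J := (hJ _).2 (Ideal.mem_span_singleton'.2 ⟨(d : B) * b', by
    linear_combination -hd2⟩)
  rcases Ideal.IsPrime.mem_or_mem ‹_› (hJq this) with h | h
  · exact d.2 h
  · exact c.2 h

end Groth.Agent.WeakEt
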